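import Cfsg.Agent.Lib.Lie.MinusculeRep
import Cfsg.Prelude.Def_E6

/-!
A cubic form given by a list of signed monomials, its polarisations, and sparse root operators acting on it.
-/

set_option autoImplicit false

namespace Cfsg.Agent.Lie.E6Cubic

/-- A signed monomial. -/
abbrev Mon : Type := (ℕ × ℕ × ℕ) × ℤ

variable {F : Type*} [Field F]

/-- The value of a monomial. -/
def mon (V : ℕ → F) (k : ℕ × ℕ × ℕ) : F := V k.1 * V k.2.1 * V k.2.2

/-- The cubic form. -/
def cub (L : List Mon) (V : ℕ → F) : F := (L.map fun m => (m.2 : F) * mon V m.1).sum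

/-- Quadratic in the first variable, linear in the second. -/
def pol (L : List Mon) (V W : ℕ → F) : F :=
  (L.map fun m => (m.2 : F) *
    (W m.1.1 * V m.1.2.1 * V m.1.2.2 + V m.1.1 * W m.1.2.1 * V m.1.2.2 + V m.1.1 * V m.1.2.1 * W m.1.2.2)).sum

/-- The symmetric trilinear form. -/
def tri (L : List Mon) (U V W : ℕ → F) : F :=
  (L.map fun m => (m.2 : F) *
    (U m.1.1 * V m.1.2.1 * W m.1.2.2 + U m.1.1 * W m.1.2.1 * V m.1.2.2 + V m.1.1 * U m.1.2.1 * W m.1.2.2 +
      V m.1.1 * W m.1.2.1 * U m.1.2.2 + W m.1.1 * U m.1.2.1 * V m.1.2.2 + W m.1.1 * V m.1.2.1 * U m.1.2.2)).sum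

theorem cub_add_smul (L : List Mon) (V W : ℕ → F) (t : F) :
    cub L (fun a => V a + t * W a) = cub L V + t * pol L V W + t ^ 2 * pol L W V + t ^ 3 * cub L W := by
  induction L with
  | nil => simp [cub, pol]
  | cons m L ih =>
    simp only [cub, pol, List.map_cons, List.sum_cons] at ih ⊢
    rw [ih]
    simp only [mon]
    ring

theorem pol_add (L : List Mon) (U V W : ℕ → F) :
    pol L (fun a => U a + V a) W = pol L U W + pol L V W + tri L U V W := by
  induction L with
  | nil => simp [pol, tri]
  | cons m L ih =>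
    simp only [pol, tri, List.map_cons, List.sum_cons] at ih ⊢
    rw [ih]
    ring

/-- The coordinates of a vector. -/
def vn {n : ℕ} (v : Fin n → F) (a : ℕ) : F := if h : a < n then v ⟨a, h⟩ else 0

theorem vn_add {n : ℕ} (v w : Fin n → F) : vn (v + w) = fun a => vn v a + vn w a := by
  funext a; by_cases h : a < n <;> simp [vn, h]

theorem vn_smul {n : ℕ} (t : F) (v : Fin n → F) : vn (t • v) = fun a => t * vn v a := by
  funext a; by_cases h : a < n <;> simp [vn, h]

theorem vn_add_smul {n : ℕ} (t : F) (v w : Fin n → F) : vn (v + t • w) = fun a => vn v a + t * vn w a := by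
  rw [vn_add, vn_smul]

/-- The cubic form on vectors. -/
def cubV (L : List Mon) {n : ℕ} (v : Fin n → F) : F := cub L (vn v)

/-- Polarisation is preserved by a linear map preserving the cubic form as a function, when there are at
least three scalars. -/
theorem preserves_polar (L : List Mon) {n : ℕ} {g : Matrix (Fin n) (Fin n) F}
    (hg : ∀ v, cubV L (g.mulVec v) = cubV L v) (h3 : ∃ t : F, t ≠ 0 ∧ t ≠ 1) :
    (∀ v w, pol L (vn (g.mulVec v)) (vn (g.mulVec w)) = pol L (vn v) (vn w)) ∧
    ∀ u v w, tri L (vn (g.mulVec u)) (vn (g.mulVec v)) (vn (g.mulVec w)) = tri L (vn u) (vn v) (vn w) := by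
  have hB : ∀ v w, pol L (vn (g.mulVec v)) (vn (g.mulVec w)) = pol L (vn v) (vn w) := by
    intro v w
    obtain ⟨t, ht0, ht1⟩ := h3
    have key : ∀ s : F, s * (pol L (vn (g.mulVec v)) (vn (g.mulVec w)) - pol L (vn v) (vn w)) +
        s ^ 2 * (pol L (vn (g.mulVec w)) (vn (g.mulVec v)) - pol L (vn w) (vn v)) = 0 := by
      intro s
      have h := hg (v + s • w)
      rw [cubV, cubV, Matrix.mulVec_add, Matrix.mulVec_smul, vn_add_smul, vn_add_smul, cub_add_smul,
        cub_add_smul] at h
      have h1 := hg v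
      have h2 := hg w
      simp only [cubV] at h1 h2
      rw [h1, h2] at h
      linear_combination h
    have e1 := key 1
    have e2 := key t
    have e3 : (t ^ 2 - t) * (pol L (vn (g.mulVec v)) (vn (g.mulVec w)) - pol L (vn v) (vn w)) = 0 := by
      linear_combination t ^ 2 * e1 - e2
    rcases mul_eq_zero.1 e3 with h | h
    · exfalso
      have : t * (t - 1) = 0 := by linear_combination h
      rcases mul_eq_zero.1 this with h' | h'
      · exact ht0 h'
      · exact ht1 (sub_eq_zero.1 h')
    · exact sub_eq_zero.1 h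
  refine ⟨hB, fun u v w => ?_⟩
  have h := hB (u + v) w
  rw [Matrix.mulVec_add, vn_add, vn_add, pol_add, pol_add, hB, hB] at h
  exact add_left_cancel h

/-- A row-sparse operator applied to coordinates. -/
def opApp (f : Mono) (V : ℕ → F) (a : ℕ) : F := if (f a).1 = 0 then 0 else ((f a).2 : F) * V ((f a).1 - 1)

theorem vn_mMat {n : ℕ} {f : Mono} (hb : mBound n f) (h0 : ∀ a, n ≤ a → (f a).1 = 0) (v : Fin n → F) :
    vn (((mMat n f).map (Int.castRingHom F)).mulVec v) = opApp f (vn v) := by
  funext a
  unfold opApp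
  by_cases ha : a < n
  · rw [vn, dif_pos ha, Matrix.mulVec, dotProduct]
    by_cases hz : (f a).1 = 0
    · rw [if_pos hz]
      refine Finset.sum_eq_zero fun b _ => ?_
      simp [mMat, mEnt, hz]
    · rw [if_neg hz]
      have hlt : (f a).1 - 1 < n := by have := hb a ha; omega
      rw [Finset.sum_eq_single (⟨(f a).1 - 1, hlt⟩ : Fin n)]
      · rw [vn, dif_pos hlt]
        simp only [mMat, mEnt, Matrix.map_apply, Int.coe_castRingHom]
        rw [if_pos (show (f a).1 = (f a).1 - 1 + 1 by omega)]
      · intro b _ hne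
        have : ¬ (f a).1 = b.val + 1 := fun e => hne (Fin.ext (by simp; omega))
        simp [mMat, mEnt, this]
      · simp
  · rw [vn, dif_neg ha, if_pos (h0 a (by omega))]

/-- Sorting a key. -/
def sort3 (k : ℕ × ℕ × ℕ) : ℕ × ℕ × ℕ :=
  let a := min k.1 k.2.1
  let b := max k.1 k.2.1
  (min a k.2.2, max a (min b k.2.2), max b k.2.2)

theorem mon_sort3 (V : ℕ → F) (k : ℕ × ℕ × ℕ) : mon V (sort3 k) = mon V k := by
  obtain ⟨x, y, z⟩ := k
  simp only [sort3, mon]
  rcases le_total x y with h1 | h1 <;> rcases le_total x z with h2 | h2 <;> rcases le_total y z with h3 | h3 <;>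
    simp [h1, h2, h3] <;> grind

/-- The linear part of a substitution. -/
def linTerms (L : List Mon) (f : Mono) : List Mon :=
  L.flatMap fun m =>
    (if (f m.1.1).1 = 0 then [] else [(sort3 ((f m.1.1).1 - 1, m.1.2.1, m.1.2.2), m.2 * (f m.1.1).2)]) ++
    ((if (f m.1.2.1).1 = 0 then [] else [(sort3 (m.1.1, (f m.1.2.1).1 - 1, m.1.2.2), m.2 * (f m.1.2.1).2)]) ++
    (if (f m.1.2.2).1 = 0 then [] else [(sort3 (m.1.1, m.1.2.1, (f m.1.2.2).1 - 1), m.2 * (f m.1.2.2).2)]))

/-- Everything cancels. -/
def okCancel : ℕ → List Mon → Bool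
  | 0, L => L.isEmpty
  | _ + 1, [] => true
  | n + 1, m :: L =>
    decide (m.2 + ((L.filter fun x => x.1 == m.1).map Prod.snd).sum = 0) &&
      okCancel n (L.filter fun x => !(x.1 == m.1))

theorem cub_cancel (V : ℕ → F) : ∀ (n : ℕ) (L : List Mon), okCancel n L = true → cub L V = 0 := by
  intro n
  induction n with
  | zero => intro L h; simp [okCancel] at h; simp [h, cub]
  | succ n ih =>
    rintro (_ | ⟨m, L⟩) h
    · rfl
    simp only [okCancel, Bool.and_eq_true, decide_eq_true_eq] at h
    have h2 := ih _ h.2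
    have hsplit : ∀ L : List Mon, cub L V =
        (((L.filter fun x => x.1 == m.1).map Prod.snd).sum : ℤ) * mon V m.1 +
          cub (L.filter fun x => !(x.1 == m.1)) V := by
      intro L
      induction L with
      | nil => simp [cub]
      | cons x L ihL =>
        simp only [cub, List.map_cons, List.sum_cons] at ihL ⊢
        by_cases hx : x.1 = m.1
        · simp [hx, ihL]; ring
        · simp [hx, ihL]; ring
    calc cub (m :: L) V = (m.2 : F) * mon V m.1 + cub L V := by simp [cub]
      _ = 0 := by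
        rw [hsplit L, h2, add_zero, ← add_mul, ← Int.cast_add, h.1, Int.cast_zero, zero_mul]

/-- Invariance test for an operator. -/
def okInv (L : List Mon) (f : Mono) : Bool :=
  (L.all fun m =>
    ((f m.1.1).1 == 0 || (f m.1.2.1).1 == 0) && ((f m.1.1).1 == 0 || (f m.1.2.2).1 == 0) &&
      ((f m.1.2.1).1 == 0 || (f m.1.2.2).1 == 0)) &&
    okCancel L.length.succ.succ.succ (linTerms L f)

theorem cub_opApp {L : List Mon} {f : Mono} (h : okInv L f = true) (V : ℕ → F) (t : F) :
    cub L (fun a => V a + t * opApp f V a) = cub L V := by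
  simp only [okInv, Bool.and_eq_true, List.all_eq_true, Bool.or_eq_true, beq_iff_eq] at h
  obtain ⟨hsq, hc⟩ := h
  have key : cub L (fun a => V a + t * opApp f V a) = cub L V + t * cub (linTerms L f) V := by
    clear hc
    induction L with
    | nil => simp [cub, linTerms]
    | cons m L ih =>
      have ih' := ih fun x hx => hsq x (List.mem_cons_of_mem _ hx)
      obtain ⟨⟨h1, h2⟩, h3⟩ := hsq m List.mem_cons_self
      simp only [cub, linTerms, List.map_cons, List.sum_cons, List.flatMap_cons, List.map_append,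
        List.sum_append] at ih' ⊢
      rw [ih']
      simp only [opApp]
      by_cases ha : (f m.1.1).1 = 0 <;> by_cases hb : (f m.1.2.1).1 = 0 <;>
        by_cases hcz : (f m.1.2.2).1 = 0 <;>
        (simp [ha, hb, hcz] at h1 h2 h3) <;>
        simp [ha, hb, hcz, mon_sort3] <;> simp [mon, ha, hb, hcz] <;> ring
  rw [key, cub_cancel V _ _ hc, mul_zero, add_zero]

end Cfsg.Agent.Lie.E6Cubic
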