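import Cfsg.Agent.Lib.Lie.E6Cubic.Data
import Cfsg.Agent.Lib.Lie.Simple
import Cfsg.Agent.Lib.Lie.AllFacts
import Cfsg.Agent.Lib.Lie.LiftSteinberg
import Cfsg.Agent.Lib.Lie.MinusculeCerts
import Cfsg.Prelude.Def_LieChev

/-!
The isometry group of the cubic form in 27 variables modulo its centre is the Chevalley group of type E6.
-/

set_option autoImplicit false
set_option linter.style.haveILetI false
set_option Elab.async false
set_option maxRecDepth 100000

namespace Cfsg.Agent.Lie.E6Cubic

open Cfsg.Lie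

/-- The table agrees with the representation on rank two roots. -/
def okBase : Bool :=
  (List.range 72).all fun r =>
    (((List.range 6).all fun i => (List.range 6).all fun j => !(decide (ctSub chevE6 i j r))) ||
      (List.range 27).all fun a => mTab rootTab r a == mTab minTabE6 r a)

/-- Roots lying in a rank two subsystem. -/
def baseRoots : List ℕ :=
  (List.range 72).filter fun r => (List.range 6).any fun i => (List.range 6).any fun j => decide (ctSub chevE6 i j r)

/-- The derived operators. -/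
def okDer : List ℕ → List (ℕ × ℕ × ℕ) → Bool
  | K, [] => (List.range 72).all K.contains
  | K, e :: es => K.contains e.2.1 && K.contains e.2.2 &&
      okLin 27 (mComp (mTab rootTab e.2.2) (mTab rootTab e.2.1)) (mComp (mTab rootTab e.2.1) (mTab rootTab e.2.2))
        (mTab rootTab e.1) (-1) &&
      okLin 27 (mComp (mTab rootTab e.2.1) (mTab rootTab e.1)) mZero mZero 0 &&
      okLin 27 (mComp (mTab rootTab e.2.2) (mTab rootTab e.1)) mZero mZero 0 && okDer (e.1 :: K) es

/-- Sizes. -/
def okSize : Bool := rootTab.all fun N => decide (N < 2 ^ 216)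

theorem okBase_ok : okBase = true := by decide +kernel
theorem okDer_ok : okDer baseRoots derList = true := by decide +kernel
theorem okSize_ok : okSize = true := by decide +kernel
theorem okBound_ok : okMinBound chevE6 27 rootTab = true := by decide +kernel
theorem okInv_ok : (baseRoots.all fun r => okInv triList (mTab rootTab r)) = true := by decide +kernel
theorem okSq_ok : okSq triList = true := by decide +kernel
theorem okSteps_ok : okSteps triList rootTab (minWt chevE6 minTabE6) [] stepList = true := by decide +kernel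
theorem okMinBound_ok : okMinBound chevE6 27 minTabE6 = true := by decide +kernel
theorem okPair_ok : ∀ i, i < chevE6.rank → ∀ j, j < chevE6.rank →
    okMinRoot chevE6 27 minTabE6 i j = true ∧ okMinComm chevE6 27 minTabE6 i j = true := by decide +kernel
theorem okDiag_ok : ∀ i, i < chevE6.rank → okMinDiag chevE6 27 minTabE6 i = true := by decide +kernel

theorem rootTab_out (r p : ℕ) (hp : 27 ≤ p) : (mTab rootTab r p).1 = 0 := by
  have h : rootTab.getD r 0 < 2 ^ 216 := by
    have hs := okSize_ok
    simp only [okSize, List.all_eq_true, decide_eq_true_eq] at hs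
    rw [List.getD_eq_getElem?_getD]
    rcases hx : rootTab[r]? with _ | N
    · simp
    · simpa using hs N (List.mem_of_getElem? hx)
  have h0 : rootTab.getD r 0 >>> (8 * p) = 0 := by
    rw [Nat.shiftRight_eq_div_pow]
    exact Nat.div_eq_of_lt (lt_of_lt_of_le h (Nat.pow_le_pow_right (by norm_num) (by omega)))
  simp only [mTab, ctByte]
  rw [h0]
  rfl

theorem root_bound {r : ℕ} (hr : r < 72) : mBound 27 (mTab rootTab r) := by
  have h := okBound_ok
  simp only [okMinBound, List.all_eq_true, List.mem_range, decide_eq_true_eq] at h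
  exact fun a ha => h r hr a ha

variable (F : Type*) [Field F]

/-- The matrix of a root operator. -/
abbrev rMat (r : ℕ) : Matrix (Fin 27) (Fin 27) F := minMat 27 rootTab F r

theorem rMat_vn {r : ℕ} (hr : r < 72) (t : F) (v : Fin 27 → F) :
    vn ((1 + t • rMat F r).mulVec v) = fun a => vn v a + t * opApp (mTab rootTab r) (vn v) a := by
  rw [Matrix.add_mulVec, Matrix.one_mulVec, Matrix.smul_mulVec, vn_add_smul, rMat, minMat,
    vn_mMat (root_bound hr) (fun a ha => rootTab_out r a ha)]

theorem base_mat {r : ℕ} (hr : r ∈ baseRoots) :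
    r < 72 ∧ (∃ i j, chevE6.InRankTwoSub i j r) ∧ minMat 27 minTabE6 F r = rMat F r := by
  simp only [baseRoots, List.mem_filter, List.mem_range, List.any_eq_true, decide_eq_true_eq] at hr
  obtain ⟨hr, i, hi, j, hj, h⟩ := hr
  refine ⟨hr, ⟨i, j, ctSub_iff.1 h⟩, ?_⟩
  have hb := okBase_ok
  simp only [okBase, List.all_eq_true, List.mem_range, Bool.or_eq_true] at hb
  rcases hb r hr with h0 | h0
  · exact absurd h (by simpa using h0 i hi j hj)
  · ext a b
    simp only [rMat, minMat, Matrix.map_apply, mMat, mEnt]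
    rw [eq_of_beq (h0 a.val a.isLt)]

theorem sub_base {i j r : ℕ} (h : chevE6.InRankTwoSub i j r) : r ∈ baseRoots := by
  have hr : r < 72 := h.1
  have hi : i < 6 := h.2.1
  have hj : j < 6 := h.2.2.1
  simp only [baseRoots, List.mem_filter, List.mem_range, List.any_eq_true, decide_eq_true_eq]
  exact ⟨hr, i, hi, j, hj, ctSub_iff.2 h⟩

/-- The representation and its image. -/
theorem exists_hom (hF : Facts chevE6) : ∃ ρ : chevE6.SteinbergGroup F →* GL (Fin 27) F,
    Grp triList rootTab (minWt chevE6 minTabE6) ρ.range ∧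
    ∀ r ∈ baseRoots, ∀ t, ((ρ (chevE6.stGen F r t) : GL (Fin 27) F) : Matrix (Fin 27) (Fin 27) F) =
      1 + t • rMat F r := by
  obtain ⟨ρ, hX, hgen, hdiag⟩ := exists_rep_tab ctFullE6 hF F okMinBound_ok okPair_ok okDiag_ok
  have hbase : ∀ r ∈ baseRoots, ∀ t, ((ρ (chevE6.stGen F r t) : GL (Fin 27) F) : Matrix (Fin 27) (Fin 27) F) =
      1 + t • rMat F r := by
    intro r hr t
    obtain ⟨-, ⟨i, j, h⟩, e⟩ := base_mat F hr
    rw [← e]
    exact hX i j r t h
  refine ⟨ρ, ⟨rootTab_out, ?_, ?_, ?_⟩, hbase⟩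
  · have hle : ρ.range ≤ funStab F (cubV triList) := by
      refine hgen _ fun i j r t h v => ?_
      have hr := sub_base h
      have hi := okInv_ok
      simp only [List.all_eq_true] at hi
      rw [cubV, cubV, Units.coeHom_apply, hbase r hr t, rMat_vn F (base_mat F hr).1 t v]
      exact cub_opApp (hi r hr) _ t
    exact fun h hh v => hle hh v
  · have hall : ∀ (es : List (ℕ × ℕ × ℕ)) (K : List ℕ), okDer K es = true →
        (∀ r ∈ K, ∀ t : F, ∃ h ∈ ρ.range, ((h : GL (Fin 27) F) : Matrix (Fin 27) (Fin 27) F) = 1 + t • rMat F r) →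
        (∀ r ∈ K, r < 72) → (∀ e ∈ es, e.1 < 72) →
        ∀ r < 72, ∀ t : F, ∃ h ∈ ρ.range, ((h : GL (Fin 27) F) : Matrix (Fin 27) (Fin 27) F) = 1 + t • rMat F r := by
      intro es
      induction es with
      | nil =>
        intro K hK hP _ _ r hr
        simp only [okDer, List.all_eq_true, List.mem_range, List.contains_iff_mem] at hK
        exact hP r (hK r hr)
      | cons e es ih =>
        intro K hK hP hlt hes
        simp only [okDer, Bool.and_eq_true, List.contains_iff_mem] at hK
        obtain ⟨⟨⟨⟨⟨ha, hb⟩, c1⟩, c2⟩, c3⟩, hrest⟩ := hK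
        refine ih _ hrest ?_ ?_ fun x hx => hes x (List.mem_cons_of_mem _ hx)
        · intro r hr t
          rcases List.mem_cons.1 hr with rfl | hr
          · obtain ⟨x, hx, ex⟩ := hP _ ha (-t)
            obtain ⟨y, hy, ey⟩ := hP _ hb 1
            refine ⟨(x * y)⁻¹ * (y * x), mul_mem (inv_mem (mul_mem hx hy)) (mul_mem hy hx), ?_⟩
            obtain ⟨cast, hcast⟩ : ∃ c : Matrix (Fin 27) (Fin 27) ℤ →+* Matrix (Fin 27) (Fin 27) F,
                c = (Int.castRingHom F).mapMatrix := ⟨_, rfl⟩
            have hm : ∀ r, rMat F r = cast (mMat 27 (mTab rootTab r)) := fun r => by rw [hcast]; rfl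
            have key : (1 + (1 : F) • rMat F e.2.2) * (1 + (-t) • rMat F e.2.1) =
                (1 + (-t) • rMat F e.2.1) * (1 + (1 : F) • rMat F e.2.2) *
                  (1 + ((1 : F) * -(-t) * 1) • rMat F e.1) := by
              refine comm_ident ?_ ?_ ?_ (-t) 1
              · rw [hm, hm, hm, ← map_mul, ← map_mul, mMat_mul (root_bound (hlt _ hb)),
                  mMat_mul (root_bound (hlt _ ha)), mMat_lin c1, map_add, map_zsmul]
                simp
              · rw [hm, hm, ← map_mul, mMat_mul (root_bound (hlt _ ha)), mMat_lin c2, mMat_zero, zero_smul,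
                  add_zero, map_zero]
              · rw [hm, hm, ← map_mul, mMat_mul (root_bound (hlt _ hb)), mMat_lin c3, mMat_zero, zero_smul,
                  add_zero, map_zero]
            rw [one_mul, neg_neg, mul_one] at key
            rw [Units.val_mul, Units.val_mul y x, ex, ey, key, ← ex, ← ey, ← Units.val_mul x y,
              ← mul_assoc, Units.inv_mul, one_mul]
          · exact hP r hr t
        · intro r hr
          rcases List.mem_cons.1 hr with rfl | hr
          exacts [hes _ List.mem_cons_self, hlt r hr]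
    intro r hr t
    obtain ⟨h, hh, he⟩ := hall derList baseRoots okDer_ok
      (fun r hr t => ⟨_, ⟨_, rfl⟩, hbase r hr t⟩) (fun r hr => (base_mat F hr).1) (by decide +kernel) r hr t
    exact ⟨h, hh, fun v => by rw [he, rMat_vn F hr]⟩
  · intro c
    have : ∀ k ≤ 6, ∃ h ∈ ρ.range, ((h : GL (Fin 27) F) : Matrix (Fin 27) (Fin 27) F) =
        Matrix.diagonal fun a => ∏ i ∈ Finset.range k, ((c i ^ minWt chevE6 minTabE6 i a.val : Fˣ) : F) := by
      intro k
      induction k with
      | zero => exact fun _ => ⟨1, one_mem _, by simp⟩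
      | succ k ih =>
        intro hk
        obtain ⟨h, hh, he⟩ := ih (by omega)
        refine ⟨h * ρ ((nElt chevE6 (chevE6.stGen F) (chevE6.simple k) (c k : F)) *
          nElt chevE6 (chevE6.stGen F) (chevE6.simple k) (-1)), mul_mem hh ⟨_, rfl⟩, ?_⟩
        rw [Units.val_mul, he, hdiag ⟨k, hk⟩ (c k), Matrix.diagonal_mul_diagonal]
        congr 1
        funext a
        rw [Finset.prod_range_succ]
    obtain ⟨h, hh, he⟩ := this 6 le_rfl
    refine ⟨h, hh, fun v a ha => ?_⟩
    rw [vn, dif_pos ha, vn, dif_pos ha, he, Matrix.mulVec_diagonal]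

/-- The image is the whole stabiliser. -/
theorem exists_onto (h3 : ∃ t : F, t ≠ 0 ∧ t ≠ 1) (hF : Facts chevE6) :
    ∃ ρ : chevE6.SteinbergGroup F →* GL (Fin 27) F, ρ.range = funStab F (cubV triList) ∧
      ∀ r ∈ baseRoots, ∀ t, ((ρ (chevE6.stGen F r t) : GL (Fin 27) F) : Matrix (Fin 27) (Fin 27) F) =
        1 + t • rMat F r := by
  obtain ⟨ρ, hG, hb⟩ := exists_hom F hF
  refine ⟨ρ, le_antisymm (fun h hh v => hG.pres h hh v) fun g hg => ?_, hb⟩
  exact mem_of_steps hG okSq_ok h3 stepList [] g okSteps_ok ⟨hg, fun s hs => by simp at hs⟩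

/-- Positions as triples. -/
def pos (a : ℕ) : I27 :=
  let k := posList.getD a 0
  (⟨k / 9 % 3, Nat.mod_lt _ (by norm_num)⟩, ⟨k / 3 % 3, Nat.mod_lt _ (by norm_num)⟩,
    ⟨k % 3, Nat.mod_lt _ (by norm_num)⟩)

/-- The relabelling. -/
def relabel : Fin 27 ≃ I27 where
  toFun a := pos a.val
  invFun x := ⟨coordList.getD (9 * x.1.val + 3 * x.2.1.val + x.2.2.val) 0 % 27, Nat.mod_lt _ (by norm_num)⟩
  left_inv := by decide +kernel
  right_inv := by decide +kernel

/-- The signed relabelling of a vector. -/
def signVec (v : Fin 27 → F) : I27 → F :=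
  fun x => (signList.getD (relabel.symm x).val 0 : F) * v (relabel.symm x)

theorem cubicT_signVec (v : Fin 27 → F) : cubicT (signVec F v) = cubV triList v := by
  have hv : ∀ (x : I27) (a : ℕ) (ha : a < 27), relabel.symm x = ⟨a, ha⟩ →
      signVec F v x = (signList.getD a 0 : F) * vn v a := by
    intro x a ha h
    rw [signVec, h, vn, dif_pos ha]
  simp only [cubicT, mat3, Matrix.det_fin_three, Matrix.trace_fin_three, Matrix.mul_apply, Fin.sum_univ_three,
    Matrix.of_apply]
  simp only [hv _ _ (relabel.symm _).isLt rfl]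
  simp only [cubV, cub, mon, triList, List.map_cons, List.map_nil, List.sum_cons, List.sum_nil, relabel,
    Equiv.coe_fn_symm_mk]
  norm_num [coordList, signList, Fin.val_natCast]
  ring

/-- Conjugation by the signed relabelling. -/
theorem exists_transfer : ∃ e : GL I27 F ≃* GL (Fin 27) F, (E6univ F).map e.toMonoidHom = funStab F (cubV triList) := by
  have hs : ∀ a : Fin 27, (signList.getD a.val 0 : F) * (signList.getD a.val 0 : F) = 1 := by
    intro a
    have h : signList.getD a.val 0 * signList.getD a.val 0 = 1 := by revert a; decide +kernel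
    rw [← Int.cast_mul, h, Int.cast_one]
  obtain ⟨d, hd⟩ : ∃ d : (Matrix (Fin 27) (Fin 27) F)ˣ,
      (d : Matrix (Fin 27) (Fin 27) F) = Matrix.diagonal (fun a => (signList.getD a.val 0 : F)) ∧ d⁻¹ = d := by
    refine ⟨⟨_, Matrix.diagonal (fun a => (signList.getD a.val 0 : F)), ?_, ?_⟩, rfl, Units.ext rfl⟩ <;>
      (show Matrix.diagonal _ * Matrix.diagonal _ = 1; rw [Matrix.diagonal_mul_diagonal]; simp only [hs]; exact Matrix.diagonal_one)
  obtain ⟨hd, hdi⟩ := hd
  let e₀ : GL I27 F ≃* GL (Fin 27) F :=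
    Units.mapEquiv (Matrix.reindexAlgEquiv F F relabel.symm).toRingEquiv.toMulEquiv
  refine ⟨e₀.trans (MulAut.conj d), ?_⟩
  have hmul : ∀ (g : GL I27 F) (v : Fin 27 → F), signVec F
      ((((e₀.trans (MulAut.conj d)) g : GL (Fin 27) F) : Matrix (Fin 27) (Fin 27) F).mulVec v) =
        (g : Matrix I27 I27 F).mulVec (signVec F v) := by
    intro g v
    funext x
    obtain ⟨a, rfl⟩ := relabel.surjective x
    simp only [MulEquiv.trans_apply, MulAut.conj_apply, Units.val_mul, hdi, hd, signVec, Equiv.symm_apply_apply,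
      ← Matrix.mulVec_mulVec, Matrix.mulVec_diagonal]
    rw [← mul_assoc, hs, one_mul, Matrix.mulVec, dotProduct, Matrix.mulVec, dotProduct, ← relabel.sum_comp]
    refine Finset.sum_congr rfl fun b _ => ?_
    simp [e₀, Matrix.mulVec_diagonal, signVec]
  have hsurj : ∀ w : I27 → F, ∃ v, signVec F v = w := fun w =>
    ⟨fun a => (signList.getD a.val 0 : F) * w (relabel a), by
      funext x; rw [signVec, Equiv.apply_symm_apply, ← mul_assoc, hs, one_mul]⟩
  ext g
  rw [Subgroup.mem_map]
  constructor
  · rintro ⟨x, hx, rfl⟩ v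
    show cubV triList ((((e₀.trans (MulAut.conj d)) x : GL (Fin 27) F) : Matrix (Fin 27) (Fin 27) F).mulVec v) = _
    rw [← cubicT_signVec, hmul, ← cubicT_signVec]
    exact hx _
  · intro hg
    obtain ⟨x, rfl⟩ := (e₀.trans (MulAut.conj d)).surjective g
    refine ⟨x, fun w => ?_, rfl⟩
    obtain ⟨v, rfl⟩ := hsurj w
    rw [Units.coeHom_apply, ← hmul, cubicT_signVec, cubicT_signVec]
    exact hg v

theorem mulEquiv_quot_center {G H : Type*} [Group G] [Group H] (e : G ≃* H) :
    Nonempty (G ⧸ Subgroup.center G ≃* H ⧸ Subgroup.center H) := by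
  refine ⟨QuotientGroup.congr _ _ e ?_⟩
  ext x
  constructor
  · rintro ⟨y, hy, rfl⟩
    rw [Subgroup.mem_center_iff]
    intro z
    obtain ⟨w, rfl⟩ := e.surjective z
    show e w * e y = e y * e w
    rw [← map_mul, ← map_mul, Subgroup.mem_center_iff.1 hy w]
  · intro hx
    obtain ⟨y, rfl⟩ := e.surjective x
    refine ⟨y, Subgroup.mem_center_iff.2 fun w => e.injective ?_, rfl⟩
    rw [map_mul, map_mul]
    exact Subgroup.mem_center_iff.1 hx (e w)

/-- A perfect-by-central argument: two surjections from one group, one onto a simple group with central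
kernel. -/
theorem quot_center_equiv {St A S : Type*} [Group St] [Group A] [Group S] [IsSimpleGroup S]
    (hS : ∃ a b : S, a * b ≠ b * a) (ρ : St →* A) (hρ : Function.Surjective ρ) (π : St →* S)
    (hπ : Function.Surjective π) (hker : π.ker ≤ Subgroup.center St) (hA : ∃ a b : A, a * b ≠ b * a) :
    Nonempty (A ⧸ Subgroup.center A ≃* S) := by
  have hK : ρ.ker ≤ π.ker := by
    rcases (Subgroup.Normal.map inferInstance π hπ : (ρ.ker.map π).Normal).eq_bot_or_eq_top with h | h
    · intro x hx
      exact (Subgroup.map_eq_bot_iff _).1 h hx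
    · exfalso
      obtain ⟨a, b, hab⟩ := hA
      refine hab ?_
      obtain ⟨x, rfl⟩ := hρ a
      obtain ⟨y, rfl⟩ := hρ b
      have hdec : ∀ z : St, ∃ k ∈ ρ.ker, k⁻¹ * z ∈ Subgroup.center St := by
        intro z
        obtain ⟨k, hk, e⟩ := (h.symm ▸ Subgroup.mem_top (π z) : π z ∈ ρ.ker.map π)
        exact ⟨k, hk, hker (by rw [MonoidHom.mem_ker, map_mul, map_inv, e, inv_mul_cancel])⟩
      obtain ⟨k, hk, hc⟩ := hdec x
      have := congrArg ρ (Subgroup.mem_center_iff.1 hc y)
      simp only [map_mul, map_inv, MonoidHom.mem_ker.1 hk, inv_one, one_mul] at this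
      exact this.symm
  have hcS : Subgroup.center S = ⊥ := by
    refine (inferInstance : (Subgroup.center S).Normal).eq_bot_or_eq_top.resolve_right fun h => ?_
    obtain ⟨a, b, hab⟩ := hS
    exact hab (Subgroup.mem_center_iff.1 (h ▸ Subgroup.mem_top b) a)
  have hkey : ((QuotientGroup.mk' (Subgroup.center A)).comp ρ).ker = π.ker := by
    ext x
    rw [MonoidHom.mem_ker, MonoidHom.comp_apply, QuotientGroup.mk'_apply, QuotientGroup.eq_one_iff,
      Subgroup.mem_center_iff]
    constructor
    · intro hx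
      have : π x ∈ Subgroup.center S := by
        rw [Subgroup.mem_center_iff]
        intro z
        obtain ⟨y, rfl⟩ := hπ z
        rw [← map_mul, ← map_mul]
        refine (MonoidHom.eq_iff π).2 (hK ?_)
        rw [MonoidHom.mem_ker, map_mul, map_inv, map_mul, map_mul, hx (ρ y), inv_mul_cancel]
      rw [hcS, Subgroup.mem_bot] at this
      exact this
    · intro hx a
      obtain ⟨y, rfl⟩ := hρ a
      rw [← map_mul, ← map_mul, Subgroup.mem_center_iff.1 (hker hx) y]
  exact ⟨(QuotientGroup.quotientKerEquivOfSurjective ((QuotientGroup.mk' (Subgroup.center A)).comp ρ)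
    ((QuotientGroup.mk'_surjective _).comp hρ)).symm.trans
      ((QuotientGroup.quotientMulEquivOfEq hkey).trans (QuotientGroup.quotientKerEquivOfSurjective π hπ))⟩

variable {F}

/-- The theorem. -/
theorem main [Fintype F] (hcard : 3 ≤ Fintype.card F) :
    Nonempty (Cfsg.Lie.E6 F ≃* ↥(chevE6.group F)) := by
  classical
  have h3 : ∃ t : F, t ≠ 0 ∧ t ≠ 1 := by
    by_contra h
    push Not at h
    have hsub : (Finset.univ : Finset F) ⊆ {0, 1} := by
      intro t _
      by_cases h0 : t = 0
      · simp [h0]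
      · simp [h t h0]
    have := (Finset.card_le_card hsub).trans Finset.card_le_two
    rw [Finset.card_univ] at this
    omega
  have hmem : chevE6 ∈ [chevG2, chevB2, chevD4, chevF4, chevE6, chevE7, chevE8] := by simp
  obtain ⟨hF⟩ := facts_of_mem hmem
  have hH := minRepE6.full.cert.hyp.1
  obtain ⟨ρ, hρ, hb⟩ := exists_onto F h3 hF
  obtain ⟨e, he⟩ := exists_transfer F
  obtain ⟨hsimp, hnc⟩ := hF.isSimple (F := F) (conn_of_mem hmem)
    (derived_eq hmem fun _ => h3) (by decide)
  haveI := hsimp
  have hker : (hF.projQ F).ker ≤ Subgroup.center (chevE6.SteinbergGroup F) := by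
    rw [hF.projQ_ker, hF.ker_eq_center hH hH.2.2]
  have hA : ∃ a b : ρ.range, a * b ≠ b * a := by
    refine ⟨⟨_, chevE6.stGen F (chevE6.simple 0) 1, rfl⟩, ⟨_, chevE6.stGen F (chevE6.neg (chevE6.simple 0)) 1, rfl⟩,
      fun h => ?_⟩
    have h' := congrArg (fun z : ρ.range => ((z : GL (Fin 27) F) : Matrix (Fin 27) (Fin 27) F)) h
    simp only [Subgroup.coe_mul, Units.val_mul, hb (chevE6.simple 0) (by decide +kernel),
      hb (chevE6.neg (chevE6.simple 0)) (by decide +kernel)] at h'
    obtain ⟨a, ha, hw⟩ : ∃ a < 27, (mComp (mTab rootTab (chevE6.simple 0)) (mTab rootTab (chevE6.neg (chevE6.simple 0))) a) =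
        (a + 1, 1) ∧ (mComp (mTab rootTab (chevE6.neg (chevE6.simple 0))) (mTab rootTab (chevE6.simple 0)) a).1 = 0 := by
      decide +kernel
    simp only [one_smul, mul_add, add_mul, one_mul, mul_one] at h'
    have h'' := congrFun (congrFun h' ⟨a, ha⟩) ⟨a, ha⟩
    have hb0 : chevE6.simple 0 < 72 := by decide
    have hb1 : chevE6.neg (chevE6.simple 0) < 72 := by decide
    simp only [rMat, minMat, ← RingHom.mapMatrix_apply, ← map_mul, mMat_mul (root_bound hb0),
      mMat_mul (root_bound hb1)] at h''
    simp [mMat, mEnt, hw.1, hw.2, add_comm, add_left_comm] at h''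
  obtain ⟨q⟩ := quot_center_equiv (S := ↥(chevE6.group F))
    (by by_contra h; push Not at h; exact hnc ⟨⟨h⟩⟩) ρ.rangeRestrict ρ.rangeRestrict_surjective
    (hF.projQ F) hF.projQ_surjective hker hA
  obtain ⟨q'⟩ := mulEquiv_quot_center ((e.subgroupMap (E6univ F)).trans (MulEquiv.subgroupCongr (he.trans hρ.symm)))
  exact ⟨q'.trans q⟩

end Cfsg.Agent.Lie.E6Cubic
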