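import Cfsg.Agent.Lib.Lie.E6Cubic.Cubic

/-!
One reduction step: a linear map preserving the cubic form and fixing a set of basis vectors can be corrected
by root elements and torus elements so as to fix one more.
-/

set_option autoImplicit false
set_option linter.style.haveILetI false

namespace Cfsg.Agent.Lie.E6Cubic

open Cfsg.Lie

/-- The data of a step. -/
structure Step where
  /-- the new basis vector -/
  a : ℕ
  /-- how a nonzero coordinate is found -/
  kind : ℕ
  /-- first index of the witness -/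
  s : ℕ
  /-- second index of the witness -/
  c : ℕ
  /-- paths from candidate coordinates -/
  paths : List (ℕ × List (ℕ × ℕ × ℕ))
  /-- coordinates known to vanish -/
  zero : List (ℕ × ℕ × ℕ)
  /-- coordinates to clear, with the root used -/
  clear : List (ℕ × ℕ)
  /-- the remaining coordinates -/
  rest : List (ℕ × ℕ)
  /-- the cocharacter fixing the scale -/
  tor : List ℤ

variable {F : Type*} [Field F]

/-- A coordinate vector. -/
def dl (s a : ℕ) : F := if a = s then 1 else 0

theorem vn_single {n : ℕ} (s : Fin n) : vn (Pi.single s (1 : F)) = dl s.val := by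
  funext a
  by_cases h : a < n
  · by_cases hs : a = s.val
    · simp [vn, h, hs, dl]
    · simp [vn, h, hs, dl, Fin.ext_iff]
  · simp [vn, h, dl, show a ≠ s.val by omega]

/-- Terms of the trilinear form at two coordinate vectors, as a linear form in the middle variable. -/
def dTerms (L : List Mon) (s c : ℕ) : List (ℕ × ℤ) :=
  L.flatMap fun m =>
    (if m.1.1 == s && m.1.2.2 == c then [(m.1.2.1, m.2)] else []) ++
    ((if m.1.1 == s && m.1.2.1 == c then [(m.1.2.2, m.2)] else []) ++
    ((if m.1.2.1 == s && m.1.2.2 == c then [(m.1.1, m.2)] else []) ++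
    ((if m.1.2.2 == s && m.1.2.1 == c then [(m.1.1, m.2)] else []) ++
    ((if m.1.2.1 == s && m.1.1 == c then [(m.1.2.2, m.2)] else []) ++
    (if m.1.2.2 == s && m.1.1 == c then [(m.1.2.1, m.2)] else [])))))

theorem tri_dl (L : List Mon) (s c : ℕ) (V : ℕ → F) :
    tri L (dl s) V (dl c) = ((dTerms L s c).map fun p => (p.2 : F) * V p.1).sum := by
  induction L with
  | nil => simp [tri, dTerms]
  | cons m L ih =>
    simp only [tri, dTerms, List.flatMap_cons, List.map_cons, List.sum_cons, List.map_append,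
      List.sum_append] at ih ⊢
    rw [ih]
    congr 1
    have e : ∀ (x y p : ℕ) (k : ℤ), (k : F) * (dl s x * V p * dl c y) =
        ((if x == s && y == c then [(p, k)] else []).map fun q => (q.2 : F) * V q.1).sum := by
      intro x y p k
      by_cases hx : x = s <;> by_cases hy : y = c <;> simp [dl, hx, hy]
    rw [← e, ← e, ← e, ← e, ← e, ← e]
    ring

theorem tri_swap (L : List Mon) (U V W : ℕ → F) : tri L U V W = tri L U W V := by
  induction L with
  | nil => rfl
  | cons m L ih =>
    simp only [tri, List.map_cons, List.sum_cons] at ih ⊢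
    rw [ih]
    ring

/-- The two other indices of the monomials through an index. -/
def pTerms (L : List Mon) (d : ℕ) : List ((ℕ × ℕ) × ℤ) :=
  L.flatMap fun m =>
    (if m.1.1 == d then [((m.1.2.1, m.1.2.2), m.2)] else []) ++
    ((if m.1.2.1 == d then [((m.1.1, m.1.2.2), m.2)] else []) ++
    (if m.1.2.2 == d then [((m.1.1, m.1.2.1), m.2)] else []))

theorem pol_dl (L : List Mon) (d : ℕ) (V : ℕ → F) :
    pol L V (dl d) = ((pTerms L d).map fun p => (p.2 : F) * (V p.1.1 * V p.1.2)).sum := by
  induction L with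
  | nil => simp [pol, pTerms]
  | cons m L ih =>
    simp only [pol, pTerms, List.flatMap_cons, List.map_cons, List.sum_cons, List.map_append,
      List.sum_append] at ih ⊢
    rw [ih]
    congr 1
    simp only [dl]
    by_cases h1 : m.1.1 = d <;> by_cases h2 : m.1.2.1 = d <;> by_cases h3 : m.1.2.2 = d <;>
      simp [h1, h2, h3] <;> ring

/-- Indices of each monomial are distinct. -/
def okSq (L : List Mon) : Bool :=
  L.all fun m => m.1.1 != m.1.2.1 && m.1.1 != m.1.2.2 && m.1.2.1 != m.1.2.2

theorem pol_dl_left {L : List Mon} (h : okSq L = true) (a : ℕ) (W : ℕ → F) : pol L (dl a) W = 0 := by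
  simp only [okSq, List.all_eq_true, Bool.and_eq_true, bne_iff_ne] at h
  unfold pol
  refine List.sum_eq_zero fun x hx => ?_
  obtain ⟨m, hm, rfl⟩ := List.mem_map.1 hx
  obtain ⟨⟨h1, h2⟩, h3⟩ := h m hm
  simp only [dl]
  by_cases a1 : m.1.1 = a <;> by_cases a2 : m.1.2.1 = a <;> by_cases a3 : m.1.2.2 = a <;> simp_all

/-- A sign. -/
def isSign (k : ℤ) : Bool := k == 1 || k == -1

theorem isSign_ne_zero {k : ℤ} (h : isSign k = true) : (k : F) ≠ 0 := by
  simp only [isSign, Bool.or_eq_true, beq_iff_eq] at h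
  rcases h with rfl | rfl <;> simp

section Checks

variable (L : List Mon) (T : List ℕ) (wt : ℕ → ℕ → ℤ) (S : List ℕ) (st : Step)

/-- A root operator fixing the basis vectors of `S`. -/
def okFix (r : ℕ) : Bool :=
  decide (r < 72) && (List.range 27).all fun p => (mTab T r p).1 == 0 || !(S.contains ((mTab T r p).1 - 1))

/-- A move. -/
def okEdge : ℕ → List (ℕ × ℕ × ℕ) → Bool
  | x, [] => x == st.a
  | x, e :: es => e.2.1 == x && okFix T S e.1 && decide (e.2.2 < 27) &&
      ((mTab T e.1 e.2.2).1 == x + 1) && isSign (mTab T e.1 e.2.2).2 && okEdge e.2.2 es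

/-- A known zero. -/
def okZero (z : ℕ × ℕ × ℕ) : Bool :=
  S.contains z.2.1 && decide (z.2.2 < 27) && z.1 != st.a &&
    (match dTerms L z.2.1 z.2.2 with
      | [p] => p.1 == z.1 && isSign p.2
      | _ => false) &&
    ((dTerms L z.2.1 st.a).isEmpty || S.contains z.2.2)

/-- Vanishing set at the end. -/
def zSet : List ℕ := st.zero.map Prod.fst ++ st.clear.map Prod.fst

/-- The clearing roots. -/
def okClear : List ℕ → List (ℕ × ℕ) → Bool
  | _, [] => true
  | done, e :: es => okFix T S e.2 && decide (e.1 < 27) && ((mTab T e.2 e.1).1 == st.a + 1) &&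
      isSign (mTab T e.2 e.1).2 && ((mTab T e.2 st.a).1 == 0) &&
      (done.all fun p => (mTab T e.2 p).1 == 0) && okClear (e.1 :: done) es

/-- A remaining coordinate. -/
def okRest (d : ℕ × ℕ) : Bool :=
  decide (d.2 < 27) &&
  match (pTerms L d.2).filter (fun p => !((zSet st).contains p.1.1 || (zSet st).contains p.1.2)) with
    | [p] => ((p.1.1 == st.a && p.1.2 == d.1) || (p.1.1 == d.1 && p.1.2 == st.a)) && isSign p.2
    | _ => false

/-- The witness for a nonzero coordinate. -/
def okWit : Bool :=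
  let cand := st.paths.map Prod.fst ++ st.zero.map Prod.fst
  match st.kind with
  | 0 => S.contains st.s && S.contains st.c &&
      match dTerms L st.s st.c with
      | [p] => p.1 == st.a && isSign p.2
      | _ => false
  | 1 => S.contains st.s && decide (st.c < 27) &&
      (match dTerms L st.s st.c with
      | [p] => p.1 == st.a && isSign p.2
      | _ => false) &&
      (L.all fun m => (m.1.1 != st.s || (cand.contains m.1.2.1 && cand.contains m.1.2.2)) &&
        (m.1.2.1 != st.s || (cand.contains m.1.1 && cand.contains m.1.2.2)) &&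
        (m.1.2.2 != st.s || (cand.contains m.1.1 && cand.contains m.1.2.1)))
  | _ => (List.range 27).all cand.contains

/-- The scale. -/
def okTor : Bool :=
  st.kind == 0 || (S.all (fun s => ((List.range 6).map fun i => st.tor.getD i 0 * wt i s).sum == 0) &&
    ((List.range 6).map fun i => st.tor.getD i 0 * wt i st.a).sum == 1)

/-- All conditions. -/
def okStep : Bool :=
  decide (st.a < 27) && (S.all fun s => decide (s < 27) && s != st.a) && st.zero.all (okZero L S st) &&
    st.paths.all (fun p => okEdge T S st p.1 p.2) && okClear T S st [] st.clear &&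
    st.rest.all (okRest L st) && okWit L S st && okTor wt S st &&
    (List.range 27).all fun p => p == st.a || (zSet st).contains p || (st.rest.map Prod.fst).contains p

end Checks

/-- The hypotheses on the group that is being built up. -/
structure Grp (L : List Mon) (T : List ℕ) (wt : ℕ → ℕ → ℤ) (H : Subgroup (GL (Fin 27) F)) : Prop where
  out : ∀ r p, 27 ≤ p → (mTab T r p).1 = 0
  pres : ∀ h ∈ H, ∀ v, cubV L ((h : Matrix (Fin 27) (Fin 27) F).mulVec v) = cubV L v
  root : ∀ r < 72, ∀ t : F, ∃ h ∈ H, ∀ v,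
    vn ((h : Matrix (Fin 27) (Fin 27) F).mulVec v) = fun a => vn v a + t * opApp (mTab T r) (vn v) a
  torus : ∀ c : ℕ → Fˣ, ∃ h ∈ H, ∀ v, ∀ a < 27,
    vn ((h : Matrix (Fin 27) (Fin 27) F).mulVec v) a = (∏ i ∈ Finset.range 6, ((c i ^ wt i a : Fˣ) : F)) * vn v a

section Proof

variable {L : List Mon} {T : List ℕ} {wt : ℕ → ℕ → ℤ} {H : Subgroup (GL (Fin 27) F)}

/-- The column of a matrix at an index. -/
noncomputable def col (g : GL (Fin 27) F) (a : ℕ) : ℕ → F :=
  if h : a < 27 then vn ((g : Matrix (Fin 27) (Fin 27) F).mulVec (Pi.single ⟨a, h⟩ 1)) else 0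

theorem col_def (g : GL (Fin 27) F) {a : ℕ} (h : a < 27) :
    col g a = vn ((g : Matrix (Fin 27) (Fin 27) F).mulVec (Pi.single ⟨a, h⟩ 1)) := dif_pos h

/-- The maps still to be treated. -/
def Good (L : List Mon) (S : List ℕ) (g : GL (Fin 27) F) : Prop :=
  (∀ v, cubV L ((g : Matrix (Fin 27) (Fin 27) F).mulVec v) = cubV L v) ∧ ∀ s ∈ S, col g s = dl s

theorem good_root (hH : Grp L T wt H) {S : List ℕ} (hS : ∀ s ∈ S, s < 27) {r : ℕ} (hr : okFix T S r = true)
    {g : GL (Fin 27) F} (hg : Good L S g) {a : ℕ} (ha : a < 27) (t : F) :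
    ∃ h ∈ H, Good L S (h * g) ∧ col (h * g) a = fun p => col g a p + t * opApp (mTab T r) (col g a) p := by
  simp only [okFix, Bool.and_eq_true, decide_eq_true_eq, List.all_eq_true, List.mem_range, Bool.or_eq_true,
    beq_iff_eq, Bool.not_eq_true'] at hr
  obtain ⟨h, hh, hv⟩ := hH.root r hr.1 t
  have hcol : ∀ b, b < 27 → col (h * g) b = fun p => col g b p + t * opApp (mTab T r) (col g b) p := by
    intro b hb
    rw [col_def _ hb, col_def _ hb, Units.val_mul, ← Matrix.mulVec_mulVec, hv]
  refine ⟨h, hh, ⟨fun v => ?_, fun s hs => ?_⟩, hcol a ha⟩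
  · rw [Units.val_mul, ← Matrix.mulVec_mulVec, hH.pres h hh, hg.1]
  · rw [hcol s (hS s hs), hg.2 s hs]
    funext p
    suffices opApp (mTab T r) (dl s : ℕ → F) p = 0 by rw [this, mul_zero, add_zero]
    unfold opApp
    split_ifs with hp
    · rfl
    by_cases h27 : p < 27
    · rcases hr.2 p h27 with h0 | h0
      · exact absurd h0 hp
      · have hne : (mTab T r p).1 - 1 ≠ s := fun e => by
          rw [e] at h0
          simp [hs] at h0
        simp [dl, hne]
    · exact absurd (hH.out r p (by omega)) hp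

theorem tri_zero {L : List Mon} {S : List ℕ} {st : Step} {g : GL (Fin 27) F} (h3 : ∃ t : F, t ≠ 0 ∧ t ≠ 1)
    (hS : ∀ s ∈ S, s < 27) (ha : st.a < 27) (hg : Good L S g) {z : ℕ × ℕ × ℕ} (hz : okZero L S st z = true) :
    col g st.a z.1 = 0 := by
  simp only [okZero, Bool.and_eq_true, List.contains_iff_mem, decide_eq_true_eq, bne_iff_ne,
    Bool.or_eq_true, List.isEmpty_iff] at hz
  obtain ⟨⟨⟨⟨hs, hc⟩, hne⟩, hd⟩, hor⟩ := hz
  obtain ⟨p, hp, hp1, hp2⟩ : ∃ p, dTerms L z.2.1 z.2.2 = [p] ∧ p.1 = z.1 ∧ isSign p.2 = true := by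
    revert hd
    generalize dTerms L z.2.1 z.2.2 = D
    rcases D with _ | ⟨p, _ | ⟨q, D⟩⟩
    · simp
    · intro hd; simp only [Bool.and_eq_true, beq_iff_eq] at hd; exact ⟨p, rfl, hd.1, hd.2⟩
    · simp
  obtain ⟨-, htri⟩ := preserves_polar L hg.1 h3
  have h0 : tri L (dl z.2.1) (col g st.a) (dl z.2.2) = 0 := by
    rcases hor with hemp | hcS
    · obtain ⟨y, hy⟩ : ∃ y : Fin 27 → F,
          (g : Matrix (Fin 27) (Fin 27) F).mulVec y = Pi.single ⟨z.2.2, hc⟩ 1 :=
        ⟨((g⁻¹ : GL (Fin 27) F) : Matrix (Fin 27) (Fin 27) F).mulVec (Pi.single ⟨z.2.2, hc⟩ 1), by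
          rw [Matrix.mulVec_mulVec, ← Units.val_mul, mul_inv_cancel, Units.val_one, Matrix.one_mulVec]⟩
      have h := htri (Pi.single ⟨z.2.1, hS _ hs⟩ 1) (Pi.single ⟨st.a, ha⟩ 1) y
      rw [hy, ← col_def g (hS _ hs), ← col_def g ha, vn_single, vn_single, vn_single, hg.2 _ hs] at h
      rw [h, tri_swap, tri_dl, hemp, List.map_nil, List.sum_nil]
    · have h := htri (Pi.single ⟨z.2.1, hS _ hs⟩ 1) (Pi.single ⟨st.a, ha⟩ 1) (Pi.single ⟨z.2.2, hc⟩ 1)
      rw [← col_def g (hS _ hs), ← col_def g ha, ← col_def g hc, vn_single, vn_single, vn_single,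
        hg.2 _ hs, hg.2 _ hcS] at h
      rw [h, tri_dl, hp]
      simp [dl, hp1, hne]
  rw [tri_dl, hp] at h0
  simp only [List.map_cons, List.map_nil, List.sum_cons, List.sum_nil, add_zero, hp1] at h0
  exact (mul_eq_zero.1 h0).resolve_left (isSign_ne_zero hp2)

theorem tri_vanish {L : List Mon} {s : ℕ} {X : ℕ → F}
    (h : ∀ m ∈ L, (m.1.1 = s → X m.1.2.1 = 0 ∧ X m.1.2.2 = 0) ∧
      (m.1.2.1 = s → X m.1.1 = 0 ∧ X m.1.2.2 = 0) ∧ (m.1.2.2 = s → X m.1.1 = 0 ∧ X m.1.2.1 = 0))
    (W : ℕ → F) : tri L (dl s) X W = 0 := by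
  unfold tri
  refine List.sum_eq_zero fun x hx => ?_
  obtain ⟨m, hm, rfl⟩ := List.mem_map.1 hx
  obtain ⟨h1, h2, h3⟩ := h m hm
  simp only [dl]
  by_cases a1 : m.1.1 = s <;> by_cases a2 : m.1.2.1 = s <;> by_cases a3 : m.1.2.2 = s <;> simp_all

/-- Walking along a path. -/
theorem walk (hH : Grp L T wt H) {S : List ℕ} (hS : ∀ s ∈ S, s < 27) {st : Step} (ha : st.a < 27) :
    ∀ (es : List (ℕ × ℕ × ℕ)) (x : ℕ) (g : GL (Fin 27) F), okEdge T S st x es = true → Good L S g →
      col g st.a x ≠ 0 → ∃ h ∈ H, Good L S (h * g) ∧ col (h * g) st.a st.a ≠ 0 := by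
  intro es
  induction es with
  | nil =>
    intro x g he hg hx
    simp only [okEdge, beq_iff_eq] at he
    subst he
    exact ⟨1, one_mem _, by rwa [one_mul], by rwa [one_mul]⟩
  | cons e es ih =>
    intro x g he hg hx
    simp only [okEdge, Bool.and_eq_true, beq_iff_eq, decide_eq_true_eq] at he
    obtain ⟨⟨⟨⟨⟨-, hr⟩, -⟩, hcolx⟩, hk⟩, hrest⟩ := he
    by_cases hy : col g st.a e.2.2 = 0
    · obtain ⟨h, hh, hg', hc⟩ := good_root hH hS hr hg ha 1
      have hne : col (h * g) st.a e.2.2 ≠ 0 := by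
        rw [hc]
        simp only [hy, zero_add, one_mul, opApp, hcolx, Nat.add_sub_cancel]
        rw [if_neg (by omega)]
        exact mul_ne_zero (isSign_ne_zero hk) hx
      obtain ⟨h', hh', hg'', hfin⟩ := ih _ _ hrest hg' hne
      exact ⟨h' * h, mul_mem hh' hh, by rwa [mul_assoc], by rwa [mul_assoc]⟩
    · exact ih _ _ hrest hg hy

/-- Clearing. -/
theorem clearAll (hH : Grp L T wt H) {S : List ℕ} (hS : ∀ s ∈ S, s < 27) {st : Step} (ha : st.a < 27) :
    ∀ (es : List (ℕ × ℕ)) (done : List ℕ) (g : GL (Fin 27) F), okClear T S st done es = true → Good L S g →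
      col g st.a st.a ≠ 0 → (∀ p ∈ done, col g st.a p = 0) →
      ∃ h ∈ H, Good L S (h * g) ∧ col (h * g) st.a st.a ≠ 0 ∧
        (∀ p ∈ done, col (h * g) st.a p = 0) ∧ ∀ e ∈ es, col (h * g) st.a e.1 = 0 := by
  intro es
  induction es with
  | nil =>
    intro done g _ hg hne hd
    exact ⟨1, one_mem _, by rwa [one_mul], by rwa [one_mul], by rwa [one_mul], by simp⟩
  | cons e es ih =>
    intro done g he hg hne hd
    simp only [okClear, Bool.and_eq_true, beq_iff_eq, decide_eq_true_eq, List.all_eq_true] at he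
    obtain ⟨⟨⟨⟨⟨⟨hr, -⟩, hcol⟩, hk⟩, hza⟩, hdone⟩, hrest⟩ := he
    obtain ⟨t, ht⟩ : ∃ t, t = -col g st.a e.1 / (((mTab T e.2 e.1).2 : F) * col g st.a st.a) := ⟨_, rfl⟩
    obtain ⟨h, hh, hg', hc⟩ := good_root hH hS hr hg ha t
    have h1 : col (h * g) st.a st.a ≠ 0 := by
      rw [hc]; simp [opApp, hza, hne]
    have h2 : ∀ p ∈ e.1 :: done, col (h * g) st.a p = 0 := by
      intro p hp
      rw [hc]
      rcases List.mem_cons.1 hp with rfl | hp
      · simp only [opApp, hcol, Nat.add_sub_cancel]
        rw [if_neg (by omega), ht]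
        have := isSign_ne_zero (F := F) hk
        field_simp
        ring
      · simp [opApp, hdone p hp, hd p hp]
    obtain ⟨h', hh', hg'', hne'', hd'', hes⟩ := ih _ _ hrest hg' h1 h2
    refine ⟨h' * h, mul_mem hh' hh, ?_⟩
    rw [mul_assoc]
    refine ⟨hg'', hne'', fun p hp => hd'' p (List.mem_cons_of_mem _ hp), fun e' he' => ?_⟩
    rcases List.mem_cons.1 he' with rfl | he'
    · exact hd'' _ List.mem_cons_self
    · exact hes e' he'

theorem prod_zpow_eq (tor : List ℤ) (b : ℕ) (u : Fˣ) :
    (∏ i ∈ Finset.range 6, ((((u ^ tor.getD i 0) ^ wt i b : Fˣ)) : F)) =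
      ((u ^ (((List.range 6).map fun i => tor.getD i 0 * wt i b).sum) : Fˣ) : F) := by
  rw [← Units.coe_prod]
  congr 1
  simp only [← zpow_mul, Finset.prod_range_succ, Finset.prod_range_zero, one_mul, List.range_succ,
    List.range_zero, List.nil_append, List.cons_append, List.map_cons, List.map_nil, List.sum_cons,
    List.sum_nil, add_zero, zpow_add, mul_assoc]

/-- One step. -/
theorem step_sound (hH : Grp L T wt H) (hSq : okSq L = true) (h3 : ∃ t : F, t ≠ 0 ∧ t ≠ 1) {S : List ℕ}
    {st : Step} (hst : okStep L T wt S st = true) {g : GL (Fin 27) F} (hg : Good L S g) :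
    ∃ h ∈ H, Good L (st.a :: S) (h * g) := by
  simp only [okStep, Bool.and_eq_true, decide_eq_true_eq, List.all_eq_true, bne_iff_ne,
    List.mem_range] at hst
  obtain ⟨⟨⟨⟨⟨⟨⟨⟨ha, hSa⟩, hzero⟩, hpaths⟩, hclear⟩, hrest⟩, hwit⟩, htor⟩, hcover⟩ := hst
  have hS : ∀ s ∈ S, s < 27 := fun s hs => (hSa s hs).1
  have hZ : ∀ g' : GL (Fin 27) F, Good L S g' → ∀ z ∈ st.zero, col g' st.a z.1 = 0 :=
    fun g' hg' z hz => tri_zero h3 hS ha hg' (hzero z hz)
  have hone : ∀ g' : GL (Fin 27) F, Good L S g' → st.kind = 0 → col g' st.a st.a = 1 := by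
    intro g' hg' hk
    simp only [okWit, hk, Bool.and_eq_true, List.contains_iff_mem] at hwit
    obtain ⟨⟨hs, hc⟩, hd⟩ := hwit
    obtain ⟨-, htri⟩ := preserves_polar L hg'.1 h3
    have h := htri (Pi.single ⟨st.s, hS _ hs⟩ 1) (Pi.single ⟨st.a, ha⟩ 1) (Pi.single ⟨st.c, hS _ hc⟩ 1)
    rw [← col_def g' (hS _ hs), ← col_def g' ha, ← col_def g' (hS _ hc), vn_single, vn_single, vn_single,
      hg'.2 _ hs, hg'.2 _ hc, tri_dl, tri_dl] at h
    revert hd h
    generalize dTerms L st.s st.c = D
    rcases D with _ | ⟨p, _ | ⟨q, D⟩⟩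
    · simp
    · intro hd h
      simp only [Bool.and_eq_true, beq_iff_eq] at hd
      simp only [List.map_cons, List.map_nil, List.sum_cons, List.sum_nil, add_zero, hd.1] at h
      have hk := isSign_ne_zero (F := F) hd.2
      refine mul_left_cancel₀ hk ?_
      rw [h]
      simp [dl]
    · simp
  -- a nonzero coordinate at `a`
  obtain ⟨h₁, hh₁, hg₁, hne₁⟩ : ∃ h ∈ H, Good L S (h * g) ∧ col (h * g) st.a st.a ≠ 0 := by
    by_cases hk : st.kind = 0
    · exact ⟨1, one_mem _, by rwa [one_mul], by rw [one_mul, hone g hg hk]; exact one_ne_zero⟩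
    · obtain ⟨x, hx, hxne⟩ : ∃ x ∈ st.paths.map Prod.fst, col g st.a x ≠ 0 := by
        by_contra hnone
        push Not at hnone
        have hvan : ∀ x ∈ st.paths.map Prod.fst ++ st.zero.map Prod.fst, col g st.a x = 0 := by
          intro x hx
          rcases List.mem_append.1 hx with hx | hx
          · exact hnone x hx
          · obtain ⟨z, hz, rfl⟩ := List.mem_map.1 hx
            exact hZ g hg z hz
        by_cases hk1 : st.kind = 1
        · simp only [okWit, hk1, Bool.and_eq_true, List.contains_iff_mem, decide_eq_true_eq,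
            List.all_eq_true, Bool.or_eq_true, bne_iff_ne] at hwit
          obtain ⟨⟨⟨hs, hc⟩, hd⟩, hall⟩ := hwit
          obtain ⟨-, htri⟩ := preserves_polar L hg.1 h3
          have h := htri (Pi.single ⟨st.s, hS _ hs⟩ 1) (Pi.single ⟨st.a, ha⟩ 1) (Pi.single ⟨st.c, hc⟩ 1)
          rw [← col_def g (hS _ hs), ← col_def g ha, vn_single, vn_single, vn_single, hg.2 _ hs,
            tri_vanish (fun m hm => ?_), tri_dl] at h
          · revert hd h
            generalize dTerms L st.s st.c = D
            rcases D with _ | ⟨p, _ | ⟨q, D⟩⟩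
            · simp
            · intro hd h
              simp only [Bool.and_eq_true, beq_iff_eq] at hd
              simp [dl, hd.1] at h
              exact isSign_ne_zero (F := F) hd.2 h.symm
            · simp
          · obtain ⟨⟨a1, a2⟩, a3⟩ := hall m hm
            refine ⟨fun e => ?_, fun e => ?_, fun e => ?_⟩
            · obtain ⟨p, q⟩ := a1.resolve_left (not_not.2 e); exact ⟨hvan _ p, hvan _ q⟩
            · obtain ⟨p, q⟩ := a2.resolve_left (not_not.2 e); exact ⟨hvan _ p, hvan _ q⟩
            · obtain ⟨p, q⟩ := a3.resolve_left (not_not.2 e); exact ⟨hvan _ p, hvan _ q⟩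
        · have hall : ∀ x < 27, col g st.a x = 0 := by
            intro x hx
            refine hvan x ?_
            unfold okWit at hwit
            rcases hkd : st.kind with _ | _ | n
            · exact absurd hkd hk
            · exact absurd hkd hk1
            · simp only [hkd, List.all_eq_true, List.mem_range, List.contains_iff_mem] at hwit
              exact hwit x hx
          have hz : (g : Matrix (Fin 27) (Fin 27) F).mulVec (Pi.single ⟨st.a, ha⟩ 1) = 0 := by
            funext i
            have h := hall i.val i.isLt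
            rw [col_def g ha, vn, dif_pos i.isLt] at h
            exact h
          have h := congrArg (((g⁻¹ : GL (Fin 27) F) : Matrix (Fin 27) (Fin 27) F).mulVec) hz
          rw [Matrix.mulVec_mulVec, ← Units.val_mul, inv_mul_cancel, Units.val_one, Matrix.one_mulVec,
            Matrix.mulVec_zero] at h
          simpa using congrFun h ⟨st.a, ha⟩
      obtain ⟨p, hp, rfl⟩ := List.mem_map.1 hx
      exact walk hH hS ha p.2 p.1 g (hpaths p hp) hg hxne
  -- clearing
  obtain ⟨h₂, hh₂, hg₂, hne₂, -, hcl⟩ := clearAll hH hS ha st.clear [] (h₁ * g) hclear hg₁ hne₁ (by simp)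
  have hzs : ∀ p ∈ zSet st, col (h₂ * (h₁ * g)) st.a p = 0 := by
    intro p hp
    rcases List.mem_append.1 hp with hp | hp
    · obtain ⟨z, hz, rfl⟩ := List.mem_map.1 hp; exact hZ _ hg₂ z hz
    · obtain ⟨e, he, rfl⟩ := List.mem_map.1 hp; exact hcl e he
  obtain ⟨g₂, eg⟩ : ∃ g₂, g₂ = h₂ * (h₁ * g) := ⟨_, rfl⟩
  rw [← eg] at hg₂ hne₂ hzs
  -- the remaining coordinates
  have hr : ∀ d ∈ st.rest, col g₂ st.a d.1 = 0 := by
    intro d hd
    have hd' := hrest d hd
    simp only [okRest, Bool.and_eq_true, decide_eq_true_eq] at hd'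
    obtain ⟨hd2, hm⟩ := hd'
    obtain ⟨hB, -⟩ := preserves_polar L hg₂.1 h3
    obtain ⟨y, hy⟩ : ∃ y : Fin 27 → F,
        (g₂ : Matrix (Fin 27) (Fin 27) F).mulVec y = Pi.single ⟨d.2, hd2⟩ 1 :=
      ⟨((g₂⁻¹ : GL (Fin 27) F) : Matrix (Fin 27) (Fin 27) F).mulVec (Pi.single ⟨d.2, hd2⟩ 1), by
        rw [Matrix.mulVec_mulVec, ← Units.val_mul, mul_inv_cancel, Units.val_one, Matrix.one_mulVec]⟩
    have h := hB (Pi.single ⟨st.a, ha⟩ 1) y
    rw [hy, ← col_def g₂ ha, vn_single, vn_single, pol_dl_left hSq, pol_dl] at h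
    have hsplit : ∀ P : List ((ℕ × ℕ) × ℤ),
        (P.map fun p => (p.2 : F) * (col g₂ st.a p.1.1 * col g₂ st.a p.1.2)).sum =
          ((P.filter fun p => !((zSet st).contains p.1.1 || (zSet st).contains p.1.2)).map
            fun p => (p.2 : F) * (col g₂ st.a p.1.1 * col g₂ st.a p.1.2)).sum := by
      intro P
      induction P with
      | nil => rfl
      | cons p P ih =>
        by_cases hp : ((zSet st).contains p.1.1 || (zSet st).contains p.1.2) = true
        · rw [List.filter_cons_of_neg (by rw [hp]; decide), List.map_cons, List.sum_cons, ih]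
          simp only [Bool.or_eq_true, List.contains_iff_mem] at hp
          rcases hp with hp | hp <;> simp [hzs _ hp]
        · rw [List.filter_cons_of_pos (by simpa using hp), List.map_cons, List.map_cons, List.sum_cons,
            List.sum_cons, ih]
    rw [hsplit] at h
    revert hm h
    generalize List.filter _ (pTerms L d.2) = D
    rcases D with _ | ⟨p, _ | ⟨q, D⟩⟩
    · simp
    · intro hm h
      simp only [Bool.and_eq_true, Bool.or_eq_true, beq_iff_eq] at hm
      simp only [List.map_cons, List.map_nil, List.sum_cons, List.sum_nil, add_zero, mul_eq_zero] at h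
      have h' := h.resolve_left (isSign_ne_zero hm.2)
      rcases hm.1 with ⟨e1, e2⟩ | ⟨e1, e2⟩ <;> rw [e1, e2] at h'
      · exact h'.resolve_left hne₂
      · exact h'.resolve_right hne₂
    · simp
  have hdiag : col g₂ st.a = fun p => col g₂ st.a st.a * dl st.a p := by
    funext p
    by_cases hp : p = st.a
    · subst hp; simp [dl]
    · simp only [dl, if_neg hp, mul_zero]
      by_cases h27 : p < 27
      · have hc := hcover p h27
        simp only [Bool.or_eq_true, beq_iff_eq, List.contains_iff_mem] at hc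
        rcases hc with (hc | hc) | hc
        · exact absurd hc hp
        · exact hzs p hc
        · obtain ⟨d, hd, rfl⟩ := List.mem_map.1 hc
          exact hr d hd
      · rw [col_def g₂ ha, vn, dif_neg h27]
  by_cases hk : st.kind = 0
  · refine ⟨h₂ * h₁, mul_mem hh₂ hh₁, ?_⟩
    rw [mul_assoc, ← eg]
    refine ⟨hg₂.1, fun s hs => ?_⟩
    rcases List.mem_cons.1 hs with rfl | hs
    · rw [hdiag, hone g₂ hg₂ hk]; simp
    · exact hg₂.2 s hs
  · simp only [okTor, Bool.or_eq_true, beq_iff_eq, hk, false_or, Bool.and_eq_true, List.all_eq_true] at htor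
    obtain ⟨u, hu⟩ : ∃ u : Fˣ, u = (Units.mk0 _ hne₂)⁻¹ := ⟨_, rfl⟩
    obtain ⟨h₃, hh₃, hv⟩ := hH.torus fun i => u ^ st.tor.getD i 0
    refine ⟨h₃ * (h₂ * h₁), mul_mem hh₃ (mul_mem hh₂ hh₁), ?_⟩
    rw [mul_assoc, mul_assoc, ← eg]
    have hcol : ∀ b < 27, ∀ p < 27, col (h₃ * g₂) b p =
        (∏ i ∈ Finset.range 6, ((((u ^ st.tor.getD i 0) ^ wt i p : Fˣ)) : F)) * col g₂ b p := by
      intro b hb p hp
      rw [col_def _ hb, col_def _ hb, Units.val_mul, ← Matrix.mulVec_mulVec, hv _ p hp]
    refine ⟨fun v => ?_, fun s hs => ?_⟩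
    · rw [Units.val_mul, ← Matrix.mulVec_mulVec, hH.pres h₃ hh₃, hg₂.1]
    · have hs27 : s < 27 := by
        rcases List.mem_cons.1 hs with rfl | hs
        exacts [ha, hS s hs]
      funext p
      by_cases h27 : p < 27
      · rw [hcol s hs27 p h27]
        rcases List.mem_cons.1 hs with rfl | hs
        · rw [hdiag]
          by_cases hp : p = st.a
          · subst hp
            rw [prod_zpow_eq, htor.2, zpow_one, hu]
            simp [dl, hne₂]
          · simp [dl, hp]
        · rw [hg₂.2 s hs]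
          by_cases hp : p = s
          · subst hp
            rw [prod_zpow_eq, htor.1 _ hs, zpow_zero]
            simp [dl]
          · simp [dl, hp]
      · rw [col_def _ hs27, vn, dif_neg h27]
        simp [dl, show p ≠ s by omega]

/-- All steps in order. -/
def okSteps (L : List Mon) (T : List ℕ) (wt : ℕ → ℕ → ℤ) : List ℕ → List Step → Bool
  | S, [] => (List.range 27).all S.contains
  | S, st :: r => okStep L T wt S st && okSteps L T wt (st.a :: S) r

/-- Every isometry lies in the group. -/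
theorem mem_of_steps (hH : Grp L T wt H) (hSq : okSq L = true) (h3 : ∃ t : F, t ≠ 0 ∧ t ≠ 1) :
    ∀ (sts : List Step) (S : List ℕ) (g : GL (Fin 27) F), okSteps L T wt S sts = true → Good L S g → g ∈ H := by
  intro sts
  induction sts with
  | nil =>
    intro S g h hg
    simp only [okSteps, List.all_eq_true, List.mem_range, List.contains_iff_mem] at h
    suffices g = 1 by rw [this]; exact one_mem _
    refine Units.ext (Matrix.ext fun i j => ?_)
    have hj := congrFun (hg.2 j.val (h j.val j.isLt)) i.val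
    rw [col_def g j.isLt, vn, dif_pos i.isLt, Matrix.mulVec_single_one] at hj
    rw [Units.val_one, Matrix.one_apply]
    refine hj.trans ?_
    simp [dl, Fin.ext_iff]
  | cons st r ih =>
    intro S g h hg
    simp only [okSteps, Bool.and_eq_true] at h
    obtain ⟨k, hk, hg'⟩ := step_sound hH hSq h3 h.1 hg
    have := ih _ _ h.2 hg'
    exact (Subgroup.mul_mem_cancel_left H hk).1 this

end Proof

end Cfsg.Agent.Lie.E6Cubic
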